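import Cfsg.Agent.Lib.Solvable.Generation
import Cfsg.Agent.Lib.Solvable.UniqueSubgroup
import Cfsg.Agent.Lib.Transfer.QuaternionSylow

/-!
A noncyclic abelian p-group (p odd) acting faithfully on a 2-group such that no nonidentity element
fixes two involutions: the centralisers are cyclic or quaternion.
-/

set_option autoImplicit false

namespace CfsgLib.LocalEven.OneInvol

open Subgroup

variable {G : Type*} [Group G]

/-- The setting: `E` acts on the 2-group `W` by conjugation. -/
structure Setup (W E : Subgroup G) (p : ℕ) : Prop where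
  two : IsPGroup 2 W
  odd : IsPGroup p E
  ne_two : p ≠ 2
  comm : ∀ x ∈ E, ∀ y ∈ E, x * y = y * x
  notCyclic : ¬ IsCyclic E
  norm : E ≤ normalizer (W : Set G)
  faithful : ∀ e ∈ E, (∀ w ∈ W, e * w = w * e) → e = 1
  fix : ∀ e ∈ E, e ≠ 1 → ∀ x ∈ W, ∀ y ∈ W, orderOf x = 2 → orderOf y = 2 →
    e * x = x * e → e * y = y * e → x = y

/-- An automorphism of order dividing 3 of a group of order 8 fixing three points is trivial. -/
theorem eq_one_of_fixed_three {Q : Type*} [Group Q] [Finite Q] (h8 : Nat.card Q = 8) {φ : MulAut Q}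
    (h3 : φ ^ 3 = 1) {u v : Q} (hu : φ u = u) (hv : φ v = v) (hu1 : u ≠ 1) (hv1 : v ≠ 1)
    (huv : u ≠ v) : φ = 1 := by
  classical
  set F := φ.toMonoidHom.eqLocus (MonoidHom.id Q) with hF
  have hcard : 3 ≤ Nat.card F := by
    let f : Fin 3 → F := ![1, ⟨u, hu⟩, ⟨v, hv⟩]
    have hf : Function.Injective f := by
      intro i j hij
      fin_cases i <;> fin_cases j <;>
        simp [f, Subtype.ext_iff, hu1, hv1, huv, Ne.symm hu1, Ne.symm hv1, Ne.symm huv] at hij ⊢
    have := Nat.card_le_card_of_injective f hf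
    simpa using this
  have hmul := F.card_mul_index
  rw [h8] at hmul
  have hidx : F.index = 1 ∨ F.index = 2 := by
    have h1 : F.index ≤ 2 := by nlinarith
    have h2 : F.index ≠ 0 := index_ne_zero_of_finite
    omega
  refine MulEquiv.ext fun q => ?_
  rw [MulAut.one_apply]
  rcases hidx with h | h
  · have : q ∈ F := (index_eq_one.1 h).symm ▸ mem_top q
    exact this
  by_cases hq : q ∈ F
  · exact hq
  have hq' : φ q ∉ F := fun hc => hq (φ.injective hc)
  set c := q⁻¹ * φ q with hc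
  have hcF : φ c = c := by
    have : q⁻¹ * φ q ∈ F := by
      rw [mul_mem_iff_of_index_two h, inv_mem_iff]
      exact iff_of_false hq hq'
    exact this
  have hpow : (φ ^ 3) q = q * c ^ 3 := by
    show φ (φ (φ q)) = q * c ^ 3
    have h1 : φ q = q * c := by rw [hc, mul_inv_cancel_left]
    simp only [h1, map_mul, hcF, pow_succ, pow_zero, one_mul, mul_assoc]
  rw [h3, MulAut.one_apply] at hpow
  have hc3 : c ^ 3 = 1 := left_eq_mul.1 hpow
  have hc8 : c ^ 8 = 1 := by rw [← h8]; exact pow_card_eq_one'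
  have hc1 : c = 1 := by
    have := pow_gcd_eq_one.2 ⟨hc3, hc8⟩
    simpa using this
  exact (inv_mul_eq_one.1 hc1).symm

variable [Finite G] {W E : Subgroup G} {p : ℕ} [Fact p.Prime]

theorem Setup.restrict (S : Setup W E p) {F : Subgroup G} (hFE : F ≤ E) (hnc : ¬ IsCyclic F) :
    Setup W F p :=
  ⟨S.two, S.odd.to_le hFE, S.ne_two, fun x hx y hy => S.comm x (hFE hx) y (hFE hy), hnc,
    hFE.trans S.norm, fun e he => S.faithful e (hFE he), fun e he => S.fix e (hFE he)⟩

theorem Setup.orderOf_odd (S : Setup W E p) {a : G} (ha : a ∈ E) : Odd (orderOf a) := by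
  obtain ⟨k, hk⟩ := IsPGroup.iff_orderOf.1 S.odd ⟨a, ha⟩
  rw [Subgroup.orderOf_mk] at hk
  rw [hk]
  exact ((Fact.out : p.Prime).odd_of_ne_two S.ne_two).pow

theorem Setup.coprime (S : Setup W E p) {A : Subgroup G} (hA : A ≤ W) :
    (Nat.card E).Coprime (Nat.card A) := by
  haveI : Fact (Nat.Prime 2) := ⟨Nat.prime_two⟩
  obtain ⟨k, hk⟩ := IsPGroup.iff_card.1 S.odd
  obtain ⟨l, hl⟩ := IsPGroup.iff_card.1 (S.two.to_le hA)
  rw [hk, hl]
  exact Nat.coprime_pow_primes k l Fact.out Nat.prime_two S.ne_two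

/-- Generation by centralisers. -/
theorem Setup.le_of_forall (S : Setup W E p) {A L : Subgroup G} (hA : A ≤ W)
    (hEA : E ≤ normalizer (A : Set G))
    (h : ∀ a ∈ E, a ≠ 1 → A ⊓ centralizer {a} ≤ L) : A ≤ L := by
  rw [← Solvable.iSup_centralizer_eq S.comm S.notCyclic hEA (S.coprime hA)]
  exact iSup₂_le fun a ha => h a ha.1 ha.2

theorem Setup.conj_centralizer (S : Setup W E p) {A : Subgroup G}
    (hEA : E ≤ normalizer (A : Set G)) {e : G} (he : e ∈ E) :
    E ≤ normalizer ((A ⊓ centralizer {e} : Subgroup G) : Set G) :=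
  Solvable.le_normalizer_of_conj_mem fun a ha x hx => by
    refine ⟨Solvable.normalizer_conj_mem (hEA ha) hx.1, mem_centralizer_singleton_iff.2 ?_⟩
    have c1 : Commute x e := mem_centralizer_singleton_iff.1 hx.2
    have c2 : Commute a e := S.comm a ha e he
    exact ((c2.mul_left c1).mul_left c2.inv_left).eq

/-- An invariant elementary abelian subgroup is centralised. -/
theorem Setup.elem_centralized (S : Setup W E p) {U : Subgroup G} (hU : U ≤ W)
    (hsq : ∀ x ∈ U, x * x = 1) (hEU : E ≤ normalizer (U : Set G)) :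
    U ≤ centralizer (E : Set G) := by
  haveI : Fact (Nat.Prime 2) := ⟨Nat.prime_two⟩
  refine S.le_of_forall hU hEU fun a ha ha1 x hx => ?_
  refine mem_centralizer_iff.2 fun b hb => ?_
  by_cases hx1 : x = 1
  · rw [hx1, one_mul, mul_one]
  have hy := Solvable.normalizer_conj_mem (S.conj_centralizer hEU ha hb) hx
  have ho : ∀ t ∈ U, t ≠ 1 → orderOf t = 2 := fun t ht ht1 =>
    orderOf_eq_prime (by rw [pow_two, hsq t ht]) ht1
  have h := S.fix a ha ha1 _ (hU hy.1) x (hU hx.1)
    (ho _ hy.1 fun h => hx1 (conj_eq_one_iff.1 h)) (ho x hx.1 hx1)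
    (mem_centralizer_singleton_iff.1 hy.2).symm (mem_centralizer_singleton_iff.1 hx.2).symm
  exact mul_inv_eq_iff_eq_mul.1 h

/-- The central involution. -/
theorem Setup.exists_z (S : Setup W E p) :
    ∃ z ∈ W, orderOf z = 2 ∧ (∀ w ∈ W, w * z = z * w) ∧ ∀ a ∈ E, a * z = z * a := by
  haveI : Fact (Nat.Prime 2) := ⟨Nat.prime_two⟩
  haveI : Nontrivial W := by
    rw [nontrivial_iff_ne_bot]
    intro hW
    refine S.notCyclic ?_
    have : E = ⊥ := (eq_bot_iff_forall _).2 fun e he => S.faithful e he fun w hw => by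
      rw [hW, mem_bot] at hw
      rw [hw, mul_one, one_mul]
    rw [this]
    infer_instance
  haveI := S.two.center_nontrivial
  obtain ⟨⟨t, ht⟩, hto⟩ := exists_prime_orderOf_dvd_card' (G := center W) 2 (by
    rcases (S.two.to_subgroup (center W)).card_eq_or_dvd with h | h
    · exact absurd h Finite.one_lt_card.ne'
    · exact h)
  rw [Subgroup.orderOf_mk] at hto
  let U : Subgroup G :=
    { carrier := {x | x ∈ W ∧ x * x = 1 ∧ ∀ w ∈ W, w * x = x * w}
      one_mem' := ⟨one_mem W, one_mul 1, fun w _ => by rw [mul_one, one_mul]⟩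
      mul_mem' := by
        rintro x y ⟨hx, hx2, hxc⟩ ⟨hy, hy2, hyc⟩
        refine ⟨mul_mem hx hy, ?_, fun w hw => (Commute.mul_right (hxc w hw) (hyc w hw)).eq⟩
        calc x * y * (x * y) = x * (y * x) * y := by group
          _ = x * x * (y * y) := by rw [hxc y hy]; group
          _ = 1 := by rw [hx2, hy2, one_mul]
      inv_mem' := by
        rintro x ⟨hx, hx2, hxc⟩
        exact ⟨inv_mem hx, by rw [← mul_inv_rev, hx2, inv_one],
          fun w hw => (Commute.inv_right (hxc w hw)).eq⟩ }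
  have htU : (t : G) ∈ U := by
    refine ⟨t.2, ?_, fun w hw => congrArg Subtype.val (mem_center_iff.1 ht ⟨w, hw⟩)⟩
    have h : t * t = 1 := by rw [← pow_two, ← hto]; exact pow_orderOf_eq_one t
    exact congrArg Subtype.val h
  have hEU : E ≤ normalizer (U : Set G) := Solvable.le_normalizer_of_conj_mem fun a ha x hx => by
    obtain ⟨hxW, hx2, hxc⟩ := hx
    refine ⟨Solvable.normalizer_conj_mem (S.norm ha) hxW, ?_, fun w hw => ?_⟩
    · calc a * x * a⁻¹ * (a * x * a⁻¹) = a * (x * x) * a⁻¹ := by group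
        _ = 1 := by rw [hx2, mul_one, mul_inv_cancel]
    · have h := hxc _ (Solvable.normalizer_conj_mem (S.norm (inv_mem ha)) hw)
      calc w * (a * x * a⁻¹) = a * (a⁻¹ * w * a⁻¹⁻¹ * x) * a⁻¹ := by group
        _ = a * x * a⁻¹ * w := by rw [h]; group
  exact ⟨(t : G), t.2, by rw [Subgroup.orderOf_coe, hto], htU.2.2, fun a ha =>
    mem_centralizer_iff.1 (S.elem_centralized (U := U) (fun x hx => hx.1) (fun x hx => hx.2.1) hEU htU) a ha⟩

variable {z : G}

/-- The only involution fixed by a nonidentity element is `z`. -/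
theorem Setup.eq_z (S : Setup W E p) (hzW : z ∈ W) (hz : orderOf z = 2)
    (hzE : ∀ a ∈ E, a * z = z * a) {a x : G} (ha : a ∈ E) (ha1 : a ≠ 1) (hx : x ∈ W)
    (hax : a * x = x * a) (hx2 : x * x = 1) : x = 1 ∨ x = z := by
  haveI : Fact (Nat.Prime 2) := ⟨Nat.prime_two⟩
  refine or_iff_not_imp_left.2 fun hx1 => S.fix a ha ha1 x hx z hzW
    (orderOf_eq_prime (by rw [pow_two, hx2]) hx1) hz hax (hzE a ha)

/-- An invariant abelian subgroup is centralised. -/
theorem Setup.abelian_centralized (S : Setup W E p) {A : Subgroup G}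
    (hA : A ≤ W) (hAc : ∀ x ∈ A, ∀ y ∈ A, x * y = y * x) (hEA : E ≤ normalizer (A : Set G)) :
    A ≤ centralizer (E : Set G) := by
  haveI : Fact (Nat.Prime 2) := ⟨Nat.prime_two⟩
  let U : Subgroup G :=
    { carrier := {x | x ∈ A ∧ x * x = 1}
      one_mem' := ⟨one_mem A, one_mul 1⟩
      mul_mem' := by
        rintro x y ⟨hx, hx2⟩ ⟨hy, hy2⟩
        refine ⟨mul_mem hx hy, ?_⟩
        calc x * y * (x * y) = x * (y * x) * y := by group
          _ = x * x * (y * y) := by rw [hAc y hy x hx]; group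
          _ = 1 := by rw [hx2, hy2, one_mul]
      inv_mem' := by
        rintro x ⟨hx, hx2⟩
        exact ⟨inv_mem hx, by rw [← mul_inv_rev, hx2, inv_one]⟩ }
  have hEU : E ≤ normalizer (U : Set G) := Solvable.le_normalizer_of_conj_mem fun a ha x hx => by
    obtain ⟨hxA, hx2⟩ := hx
    refine ⟨Solvable.normalizer_conj_mem (hEA ha) hxA, ?_⟩
    calc a * x * a⁻¹ * (a * x * a⁻¹) = a * (x * x) * a⁻¹ := by group
      _ = 1 := by rw [hx2, mul_one, mul_inv_cancel]
  have hUE := S.elem_centralized (U := U) (fun x hx => hA hx.1) (fun x hx => hx.2) hEU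
  intro x
  induction hn : orderOf x using Nat.strong_induction_on generalizing x with
  | _ n ih =>
    intro hx
    by_cases hx1 : x = 1
    · rw [hx1]; exact one_mem _
    have hlt : orderOf (x * x) < n := by
      obtain ⟨k, hk⟩ := IsPGroup.iff_orderOf.1 (S.two.to_le hA) ⟨x, hx⟩
      rw [Subgroup.orderOf_mk] at hk
      have hk0 : k ≠ 0 := fun h => hx1 (orderOf_eq_one_iff.1 (by rw [hk, h, pow_zero]))
      rw [← hn, ← pow_two, orderOf_pow' x two_ne_zero, hk,
        Nat.gcd_eq_right (dvd_pow_self 2 hk0)]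
      exact Nat.div_lt_self (by positivity) one_lt_two
    have hsq := ih _ hlt rfl (mul_mem hx hx)
    refine mem_centralizer_iff.2 fun a ha => ?_
    set t := x⁻¹ * (a * x * a⁻¹) with ht
    have hcA : a * x * a⁻¹ ∈ A := Solvable.normalizer_conj_mem (hEA ha) hx
    have htA : t ∈ A := mul_mem (inv_mem hx) hcA
    have ht2 : t * t = 1 := by
      calc t * t = x⁻¹ * ((a * x * a⁻¹) * x⁻¹) * (a * x * a⁻¹) := by rw [ht]; group
        _ = x⁻¹ * x⁻¹ * (a * (x * x) * a⁻¹) := by
          rw [hAc _ hcA _ (inv_mem hx)]; group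
        _ = 1 := by rw [mem_centralizer_iff.1 hsq a ha]; group
    have hta : a * t = t * a := mem_centralizer_iff.1 (hUE ⟨htA, ht2⟩) a ha
    have hrec : a * x = x * (t * a) := by rw [ht]; group
    have hpow : ∀ m : ℕ, a ^ m * x = x * t ^ m * a ^ m := by
      intro m
      induction m with
      | zero => simp
      | succ m ihm =>
        have hct : a * t ^ m = t ^ m * a := (Commute.pow_right hta m).eq
        calc a ^ (m + 1) * x = a * (a ^ m * x) := by rw [pow_succ']; group
          _ = a * x * t ^ m * a ^ m := by rw [ihm]; group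
          _ = x * (t * (a * t ^ m)) * a ^ m := by rw [hrec]; group
          _ = x * t ^ (m + 1) * a ^ (m + 1) := by rw [hct, pow_succ', pow_succ']; group
    have h := hpow (orderOf a)
    rw [pow_orderOf_eq_one, one_mul, mul_one] at h
    have ht1 : t = 1 := by
      obtain ⟨j, hj⟩ := S.orderOf_odd ha
      have h1 : t ^ orderOf a = 1 := left_eq_mul.1 h
      rw [hj, pow_succ, pow_mul, pow_two, ht2, one_pow, one_mul] at h1
      exact h1
    rw [hrec, ht1, one_mul]

/-- The action on the centraliser of a nonidentity element. -/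
theorem Setup.act_cases (S : Setup W E p) (hzW : z ∈ W) (hz : orderOf z = 2)
    (hzE : ∀ a ∈ E, a * z = z * a) {e a : G} (he : e ∈ E) (he1 : e ≠ 1) (ha : a ∈ E) :
    (∀ w ∈ W ⊓ centralizer {e}, a * w = w * a) ∨
      (Nat.card ↥(W ⊓ centralizer {e}) = 8 ∧ (∀ w ∈ W ⊓ centralizer {e}, a ^ 3 * w = w * a ^ 3) ∧
        ∀ w ∈ W ⊓ centralizer {e}, a * w = w * a → w = 1 ∨ w = z) := by
  haveI : Fact (Nat.Prime 2) := ⟨Nat.prime_two⟩
  have hEQ := S.conj_centralizer S.norm he
  set Q := W ⊓ centralizer {e} with hQ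
  have hQW : Q ≤ W := inf_le_left
  have hQ2 : IsPGroup 2 Q := S.two.to_le hQW
  have hu : ∀ x y : Q, orderOf x = 2 → orderOf y = 2 → x ∈ zpowers y := by
    intro x y hx hy
    have hxy : x = y := Subtype.ext (S.fix e he he1 _ x.2.1 _ y.2.1
      (by rw [Subgroup.orderOf_coe, hx]) (by rw [Subgroup.orderOf_coe, hy])
      (mem_centralizer_singleton_iff.1 x.2.2).symm (mem_centralizer_singleton_iff.1 y.2.2).symm)
    rw [hxy]
    exact mem_zpowers y
  rcases Solvable.isCyclic_or_quaternion hQ2 hu with hc | ⟨-, n, ⟨iso⟩⟩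
  · left
    obtain ⟨g, hg⟩ := hc.exists_generator
    refine fun w hw => mem_centralizer_iff.1
      (S.abelian_centralized hQW (fun x hx y hy => ?_) hEQ hw) a ha
    obtain ⟨i, hi⟩ := hg ⟨x, hx⟩
    obtain ⟨j, hj⟩ := hg ⟨y, hy⟩
    exact congrArg Subtype.val
      (hi ▸ hj ▸ ((Commute.refl g).zpow_zpow i j).eq : (⟨x, hx⟩ : Q) * ⟨y, hy⟩ = ⟨y, hy⟩ * ⟨x, hx⟩)
  · have hQL := Transfer.QuatSylow.quatLike_of_injective iso.toMonoidHom iso.injective
    set φ : MulAut Q := Q.normalizerMonoidHom ⟨a, hEQ ha⟩ with hφ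
    have hφa : ∀ w : Q, ((φ w : Q) : G) = a * w * a⁻¹ := fun _ => rfl
    have hfix : ∀ w : Q, φ w = w ↔ a * (w : G) = w * a := fun w => by
      rw [Subtype.ext_iff, hφa, mul_inv_eq_iff_eq_mul]
    by_cases hφ1 : φ = 1
    · left
      intro w hw
      exact (hfix ⟨w, hw⟩).1 (by rw [hφ1, MulAut.one_apply])
    right
    have hφN : φ ^ orderOf a = 1 := by
      rw [hφ, ← map_pow, show (⟨a, hEQ ha⟩ : ↥(normalizer (Q : Set G))) ^ orderOf a = 1 from
        Subtype.ext (pow_orderOf_eq_one a), map_one]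
    obtain ⟨d, e', -, -, -, h1, h2, h3, hcard, hgen⟩ :=
      Transfer.QuatSylow.exists_frame hQL (S.orderOf_odd ha) hφN hφ1
    have hφ3 : φ ^ 3 = 1 := by
      have hle : closure {d, e'} ≤ ((φ ^ 3).toMonoidHom).eqLocus (MonoidHom.id _) := by
        refine (closure_le _).2 ?_
        intro y hy
        obtain hy | hy : y = _ ∨ y = _ := by simpa using hy
        all_goals rw [hy]
        · show φ (φ (φ d)) = d
          rw [h1, h2, h3]
        · show φ (φ (φ e')) = e'
          rw [h2, h3, h1]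
      rw [hgen] at hle
      exact MulEquiv.ext fun x => hle (mem_top x)
    refine ⟨hcard, fun w hw => ?_, fun w hw haw => ?_⟩
    · have h : ((φ ^ 3) ⟨w, hw⟩ : G) = w := by rw [hφ3, MulAut.one_apply]
      change a * (a * (a * w * a⁻¹) * a⁻¹) * a⁻¹ = w at h
      conv_rhs => rw [← h]
      rw [pow_succ, pow_two]
      group
    · by_contra hne
      push Not at hne
      have hzQ : z ∈ Q := ⟨hzW, mem_centralizer_singleton_iff.2 (hzE e he).symm⟩
      refine hφ1 (eq_one_of_fixed_three hcard hφ3 (u := ⟨z, hzQ⟩) (v := ⟨w, hw⟩)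
        ((hfix _).2 (hzE a ha)) ((hfix _).2 haw) ?_ ?_ ?_)
      · exact fun h => by
          rw [show z = 1 from congrArg Subtype.val h, orderOf_one] at hz
          exact absurd hz (by norm_num)
      · exact fun h => hne.1 (congrArg Subtype.val h)
      · exact fun h => hne.2 (congrArg Subtype.val h).symm

/-- Some element acts nontrivially on some centraliser. -/
theorem Setup.exists_nontrivial (S : Setup W E p) :
    ∃ e ∈ E, e ≠ 1 ∧ ∃ a ∈ E, ∃ w ∈ W ⊓ centralizer {e}, a * w ≠ w * a := by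
  by_contra hcon
  push Not at hcon
  have hWE : W ≤ centralizer (E : Set G) := S.le_of_forall le_rfl S.norm fun e he he1 w hw =>
    mem_centralizer_iff.2 fun a ha => hcon e he he1 a ha w hw
  refine S.notCyclic ?_
  have : E = ⊥ := (eq_bot_iff_forall _).2 fun e he => S.faithful e he fun w hw =>
    mem_centralizer_iff.1 (hWE hw) e he
  rw [this]
  infer_instance

/-- The common fixed points are `1` and `z`. -/
theorem Setup.fix_all (S : Setup W E p) (hzW : z ∈ W) (hz : orderOf z = 2)
    (hzE : ∀ a ∈ E, a * z = z * a) {w : G} (hw : w ∈ W) (hwE : ∀ a ∈ E, a * w = w * a) :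
    w = 1 ∨ w = z := by
  obtain ⟨e, he, he1, a, ha, v, hv, hne⟩ := S.exists_nontrivial
  rcases S.act_cases hzW hz hzE he he1 ha with h | ⟨-, -, h⟩
  · exact absurd (h v hv) hne
  · exact h w ⟨hw, mem_centralizer_singleton_iff.2 (hwE e he).symm⟩ (hwE a ha)

/-- The prime is 3. -/
theorem Setup.prime_eq_three (S : Setup W E p) : p = 3 := by
  obtain ⟨z, hzW, hz, -, hzE⟩ := S.exists_z
  obtain ⟨e, he, he1, a, ha, v, hv, hne⟩ := S.exists_nontrivial
  rcases S.act_cases hzW hz hzE he he1 ha with h | ⟨-, h, -⟩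
  · exact absurd (h v hv) hne
  · by_contra hp3
    refine hne ?_
    obtain ⟨k, hk⟩ := IsPGroup.iff_orderOf.1 S.odd ⟨a, ha⟩
    rw [Subgroup.orderOf_mk] at hk
    have hcop : Nat.Coprime 3 (orderOf a) := by
      rw [hk]
      exact ((Nat.coprime_primes Nat.prime_three Fact.out).2 (Ne.symm hp3)).pow_right k
    obtain ⟨m, hm⟩ := exists_pow_eq_self_of_coprime hcop
    have hc : Commute ((a ^ 3) ^ m) v := Commute.pow_left (h v hv) m
    rw [hm] at hc
    exact hc.eq

end CfsgLib.LocalEven.OneInvol
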