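import Cfsg.Agent.Lib.PGroup.Extraspecial

/-!
A 2-group in which the second centre term modulo a central subgroup of order 2, restricted to
exponent 2 there, has centre that subgroup, is that term.
-/

set_option autoImplicit false

namespace CfsgLib.LocalEven.OneInvol

open Subgroup
open scoped commutatorElement

variable {W : Type*} [Group W]

/-- Elements whose square and whose commutators lie in the central subgroup `Z`. -/
def innerTerm (Z : Subgroup W) (hZ : Z ≤ center W) : Subgroup W where
  carrier := {u | u * u ∈ Z ∧ ∀ w : W, ⁅u, w⁆ ∈ Z}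
  one_mem' := ⟨by simp, fun w => by simp⟩
  mul_mem' := by
    rintro u v ⟨hu, hu'⟩ ⟨hv, hv'⟩
    refine ⟨?_, fun w => ?_⟩
    · have hc : ⁅v, u⁆ ∈ Z := hv' u
      have h : u * v * (u * v) = u * ⁅v, u⁆ * u * (v * v) := by
        rw [commutatorElement_def]; group
      rw [h, mem_center_iff.1 (hZ hc) u, mul_assoc ⁅v, u⁆ u u]
      exact mul_mem (mul_mem hc hu) hv
    · rw [PGroup.comm_mul_left (hZ (hv' w))]
      exact mul_mem (hu' w) (hv' w)
  inv_mem' := by
    rintro u ⟨hu, hu'⟩
    refine ⟨by rw [← mul_inv_rev]; exact inv_mem hu, fun w => ?_⟩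
    have h := PGroup.comm_mul_left (a := u⁻¹) (b := u) (c := w) (hZ (hu' w))
    rw [inv_mul_cancel, commutatorElement_one_left] at h
    rw [eq_inv_of_mul_eq_one_left h.symm]
    exact inv_mem (hu' w)

theorem mem_innerTerm {Z : Subgroup W} {hZ : Z ≤ center W} {u : W} :
    u ∈ innerTerm Z hZ ↔ u * u ∈ Z ∧ ∀ w : W, ⁅u, w⁆ ∈ Z := Iff.rfl

theorem le_innerTerm {Z : Subgroup W} {hZ : Z ≤ center W} : Z ≤ innerTerm Z hZ := fun z hz =>
  ⟨mul_mem hz hz, fun w => by
    rw [commutatorElement_eq_one_iff_mul_comm.2 (mem_center_iff.1 (hZ hz) w).symm]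
    exact one_mem Z⟩

/-- Pairing: the centraliser of a part of the inner term is large. -/
theorem card_centralizer_ge [Finite W] {Z : Subgroup W} (hZ : Z ≤ center W) (hZ2 : Nat.card Z = 2)
    (K : Subgroup W) (hZK : Z ≤ K) (hK : K ≤ innerTerm Z hZ) :
    Nat.card W * 2 ≤ Nat.card (centralizer (K : Set W)) * Nat.card K := by
  haveI : Fact (Nat.Prime 2) := ⟨Nat.prime_two⟩
  obtain ⟨M, hM, hMmax⟩ := Finite.exists_le_maximal
    (p := fun M : Subgroup W => M ≤ K ∧ Z ≤ M ∧
      Nat.card W * 2 ≤ Nat.card (centralizer (M : Set W)) * Nat.card M) (a := Z)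
    ⟨hZK, le_rfl, by
      rw [centralizer_eq_top_iff_subset.2 hZ, hZ2, card_top]⟩
  obtain ⟨hMK, hZM, hMcard⟩ := hMmax.1
  by_cases hMe : M = K
  · rw [← hMe]; exact hMcard
  obtain ⟨u, huK, huM⟩ := SetLike.exists_of_lt (lt_of_le_of_ne hMK hMe)
  exfalso
  set M' := M ⊔ zpowers u with hM'
  have hlt : M < M' := lt_of_le_of_ne le_sup_left
    (fun h => huM (h ▸ mem_sup_right (mem_zpowers u)))
  refine hlt.not_ge (hMmax.2
    ⟨sup_le hMK (zpowers_le.2 huK), hZM.trans le_sup_left, ?_⟩ le_sup_left)
  have h1 : centralizer (M : Set W) ⊓ centralizer ({u} : Set W) ≤ centralizer (M' : Set W) := by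
    intro c hc
    have hle : M' ≤ centralizer ({c} : Set W) := sup_le
      (fun m hm => mem_centralizer_singleton_iff.2 (mem_centralizer_iff.1 hc.1 m hm))
      (zpowers_le.2 (mem_centralizer_singleton_iff.2
        (mem_centralizer_singleton_iff.1 hc.2).symm))
    exact mem_centralizer_iff.2 fun m hm => mem_centralizer_singleton_iff.1 (hle hm)
  have h2 : Nat.card (centralizer (M : Set W)) ≤
      Nat.card ↥(centralizer (M : Set W) ⊓ centralizer ({u} : Set W)) * 2 := by
    by_cases hle : centralizer (M : Set W) ≤ centralizer ({u} : Set W)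
    · rw [inf_eq_left.2 hle]; omega
    · rw [PGroup.card_inf_centralizer_mul hZ hZ2 (fun c _ => ?_) hle]
      rw [← commutatorElement_inv]
      exact inv_mem ((hK huK).2 c)
  have h3 : 2 * Nat.card M ≤ Nat.card M' := by
    obtain ⟨k, hk⟩ := card_dvd_of_le hlt.le
    rw [hk, mul_comm]
    refine Nat.mul_le_mul_left _ ?_
    rcases k with _ | _ | k
    · have := Nat.card_pos (α := M'); omega
    · exact absurd (eq_of_le_of_card_ge hlt.le (by omega)) hlt.ne
    · omega
  have h4 := Nat.card_le_card_of_injective _ (inclusion_injective h1)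
  calc Nat.card W * 2 ≤ Nat.card (centralizer (M : Set W)) * Nat.card M := hMcard
    _ ≤ Nat.card ↥(centralizer (M : Set W) ⊓ centralizer ({u} : Set W)) * 2 * Nat.card M :=
        Nat.mul_le_mul_right _ h2
    _ = Nat.card ↥(centralizer (M : Set W) ⊓ centralizer ({u} : Set W)) * (2 * Nat.card M) := by
        ring
    _ ≤ Nat.card (centralizer (M' : Set W)) * Nat.card M' := Nat.mul_le_mul h4 h3

/-- If the inner term has centre `Z`, it is the whole group. -/
theorem innerTerm_eq_top [Finite W] (hW : IsPGroup 2 W) {Z : Subgroup W} (hZ : Z ≤ center W)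
    (hZ2 : Nat.card Z = 2)
    (hcen : innerTerm Z hZ ⊓ centralizer (innerTerm Z hZ : Set W) ≤ Z) :
    innerTerm Z hZ = ⊤ := by
  haveI : Fact (Nat.Prime 2) := ⟨Nat.prime_two⟩
  set U := innerTerm Z hZ with hU
  set C := centralizer (U : Set W) with hC
  have hZC : Z ≤ C := fun z hz =>
    mem_centralizer_iff.2 fun u _ => mem_center_iff.1 (hZ hz) u
  have hUC : U ⊓ C = Z := le_antisymm hcen (le_inf le_innerTerm hZC)
  have hcount := card_centralizer_ge hZ hZ2 U le_innerTerm le_rfl
  have hrel : C.relIndex U * 2 = Nat.card U := by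
    have h := (C.subgroupOf U).card_mul_index
    rw [show Nat.card (C.subgroupOf U) = Nat.card ↥(U ⊓ C) by
      rw [← card_map_of_injective U.subtype_injective, subgroupOf_map_subtype, inf_comm],
      hUC, hZ2] at h
    rw [relIndex, ← h, mul_comm]
  have hUCtop : U ⊔ C = ⊤ := by
    refine index_eq_one.1 ?_
    have h5 : C.relIndex (U ⊔ C) * (U ⊔ C).index = C.index := relIndex_mul_index le_sup_right
    have h6 : C.relIndex U ≤ C.relIndex (U ⊔ C) :=
      relIndex_le_of_le_right le_sup_left index_ne_zero_of_finite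
    have h7 : C.index ≤ C.relIndex U := by
      refine Nat.le_of_mul_le_mul_left ?_ (Nat.card_pos (α := C))
      refine Nat.le_of_mul_le_mul_right ?_ (two_pos : 0 < 2)
      rw [C.card_mul_index, mul_assoc, hrel]
      exact hcount
    have h8 : 0 < (U ⊔ C).index := Nat.pos_of_ne_zero index_ne_zero_of_finite
    have h9 : 0 < C.relIndex U := Nat.pos_of_ne_zero fun h => by
      rw [h, zero_mul] at hrel
      exact Nat.card_pos.ne hrel
    nlinarith
  have hUn : U.Normal := ⟨fun u hu g => by
    have h : g * u * g⁻¹ = ⁅u, g⁆⁻¹ * u := by rw [commutatorElement_def]; group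
    rw [h]
    exact mul_mem (inv_mem (le_innerTerm (hu.2 g))) hu⟩
  have hCZ : C = Z := by
    refine le_antisymm (fun c hc => by_contra fun hcZ => ?_) hZC
    haveI : Z.Normal := ⟨fun n hn g => by rw [mem_center_iff.1 (hZ hn) g, mul_inv_cancel_right]; exact hn⟩
    haveI : C.Normal := by rw [hC]; infer_instance
    have hCne : C.map (QuotientGroup.mk' Z) ≠ ⊥ := fun h => hcZ <| by
      have := mem_map_of_mem (QuotientGroup.mk' Z) hc
      rwa [h, mem_bot, QuotientGroup.mk'_apply, QuotientGroup.eq_one_iff] at this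
    haveI : (C.map (QuotientGroup.mk' Z)).Normal :=
      Normal.map inferInstance _ (QuotientGroup.mk'_surjective Z)
    obtain ⟨y, hy, hyo⟩ := PGroup.exists_orderOf_eq (hW.to_quotient Z)
      (PGroup.inf_center_ne_bot (hW.to_quotient Z) _ hCne)
    obtain ⟨c', hc', rfl⟩ := hy.1
    have hc'U : c' ∈ U := by
      refine ⟨?_, fun w => ?_⟩
      · have h := pow_orderOf_eq_one (QuotientGroup.mk' Z c')
        rw [hyo, ← map_pow, QuotientGroup.mk'_apply, QuotientGroup.eq_one_iff, pow_two] at h
        exact h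
      · have h := (mem_center_iff.1 hy.2 (QuotientGroup.mk' Z w)).symm
        rw [← commutatorElement_eq_one_iff_mul_comm, ← map_commutatorElement,
          QuotientGroup.mk'_apply, QuotientGroup.eq_one_iff] at h
        exact h
    have h : c' ∈ Z := hcen ⟨hc'U, hc'⟩
    rw [QuotientGroup.mk'_apply, (QuotientGroup.eq_one_iff c').2 h, orderOf_one] at hyo
    exact absurd hyo (by norm_num)
  rw [hCZ, sup_eq_left.2 le_innerTerm] at hUCtop
  exact hUCtop

end CfsgLib.LocalEven.OneInvol
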