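import Cfsg.Agent.Lib.LocalEven.OneInvol.Basic
import Cfsg.Agent.Lib.LocalEven.OneInvol.Frame

/-!
A noncyclic abelian p-group (p odd) acting faithfully on a 2-group such that no nonidentity element
fixes two involutions has order 9, and the 2-group is extraspecial of order 32, 128 or 512.
-/

set_option autoImplicit false

namespace CfsgLib.LocalEven.OneInvol

open Subgroup
open scoped commutatorElement

variable {G : Type*} [Group G] [Finite G] {W E : Subgroup G} {p : ℕ} [Fact p.Prime] {z : G}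

/-- The 2-group is extraspecial with centre generated by `z`. -/
theorem Setup.extraspecial (S : Setup W E p) (hzW : z ∈ W) (hz : orderOf z = 2)
    (hzc : ∀ w ∈ W, w * z = z * w) (hzE : ∀ a ∈ E, a * z = z * a) :
    Cfsg.IsExtraspecial 2 W ∧ center W = zpowers ⟨z, hzW⟩ := by
  haveI : Fact (Nat.Prime 2) := ⟨Nat.prime_two⟩
  set Z := zpowers (⟨z, hzW⟩ : W) with hZdef
  have hZ : Z ≤ center W := zpowers_le.2 (mem_center_iff.2 fun w => Subtype.ext (hzc w w.2))
  have hZ2 : Nat.card Z = 2 := by rw [hZdef, Nat.card_zpowers, Subgroup.orderOf_mk, hz]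
  set U := innerTerm Z hZ with hU
  let φ : ∀ a ∈ E, MulAut W := fun a ha => W.normalizerMonoidHom ⟨a, S.norm ha⟩
  have hφc : ∀ a (ha : a ∈ E) (w : W), ((φ a ha w : W) : G) = a * w * a⁻¹ := fun _ _ _ => rfl
  have hφZ : ∀ a (ha : a ∈ E), ∀ y ∈ Z, φ a ha y = y := by
    intro a ha y hy
    obtain ⟨i, rfl⟩ := hy
    show φ a ha (⟨z, hzW⟩ ^ i) = _
    rw [map_zpow, show φ a ha ⟨z, hzW⟩ = ⟨z, hzW⟩ from
      Subtype.ext (mul_inv_eq_iff_eq_mul.2 (hzE a ha))]
  have hφU : ∀ a (ha : a ∈ E), ∀ u ∈ U, φ a ha u ∈ U := by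
    intro a ha u hu
    refine ⟨?_, fun w => ?_⟩
    · rw [← map_mul, hφZ a ha _ hu.1]; exact hu.1
    · obtain ⟨v, rfl⟩ := (φ a ha).surjective w
      rw [← map_commutatorElement, hφZ a ha _ (hu.2 v)]
      exact hu.2 v
  set A := (U ⊓ centralizer (U : Set W)).map W.subtype with hA
  have hcen : U ⊓ centralizer (U : Set W) ≤ Z := by
    have hAW : A ≤ W := map_subtype_le _
    have hAc : ∀ x ∈ A, ∀ y ∈ A, x * y = y * x := by
      rintro _ ⟨x, hx, rfl⟩ _ ⟨y, hy, rfl⟩
      exact congrArg Subtype.val (mem_centralizer_iff.1 hy.2 x hx.1)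
    have hEA : E ≤ normalizer (A : Set G) := Solvable.le_normalizer_of_conj_mem fun a ha x hx => by
      obtain ⟨u, hu, rfl⟩ := hx
      refine ⟨φ a ha u, ⟨hφU a ha u hu.1, mem_centralizer_iff.2 fun v hv => ?_⟩, rfl⟩
      have hv' := hφU a⁻¹ (inv_mem ha) v hv
      have he : φ a ha (φ a⁻¹ (inv_mem ha) v) = v := Subtype.ext (by
        rw [hφc a ha, hφc a⁻¹ (inv_mem ha)]; group)
      have h := congrArg (φ a ha) (mem_centralizer_iff.1 hu.2 _ hv')
      rwa [map_mul, map_mul, he] at h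
    intro u hu
    have hc := S.abelian_centralized hAW hAc hEA (mem_map_of_mem W.subtype hu)
    rcases S.fix_all hzW hz hzE u.2 (fun a ha => mem_centralizer_iff.1 hc a ha) with h | h
    · rw [show u = 1 from Subtype.ext h]; exact one_mem Z
    · rw [show u = ⟨z, hzW⟩ from Subtype.ext h]; exact mem_zpowers _
  have htop := innerTerm_eq_top S.two hZ hZ2 hcen
  have hall : ∀ u : W, u * u ∈ Z ∧ ∀ w : W, ⁅u, w⁆ ∈ Z := fun u =>
    mem_innerTerm.1 (htop.symm ▸ mem_top u : u ∈ innerTerm Z hZ)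
  have hcentre : center W = Z := by
    refine le_antisymm (fun c hc => hcen ?_) hZ
    exact ⟨hall c, mem_centralizer_iff.2 fun u _ => mem_center_iff.1 hc u⟩
  refine ⟨PGroup.isExtraspecial_mk S.two (by rw [hcentre]; exact hZ2) ?_
    (fun a b => hcentre ▸ (hall a).2 b) (fun a => hcentre ▸ pow_two a ▸ (hall a).1), hcentre⟩
  intro hcomm
  refine S.notCyclic ?_
  have hE : E = ⊥ := (eq_bot_iff_forall _).2 fun e he => S.faithful e he fun w hw => by
    have hwc : (⟨w, hw⟩ : W) ∈ center W := mem_center_iff.2 fun v => hcomm.is_comm.comm _ _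
    rw [hcentre] at hwc
    exact mul_inv_eq_iff_eq_mul.1 (congrArg Subtype.val (hφZ e he _ hwc))
  rw [hE]
  infer_instance

/-- Each centraliser has order 8 or lies in `⟨z⟩`. -/
theorem Setup.centralizer_cases (S : Setup W E p) (hzW : z ∈ W) (hz : orderOf z = 2)
    (hzE : ∀ a ∈ E, a * z = z * a) {e : G} (he : e ∈ E) (he1 : e ≠ 1) :
    Nat.card ↥(W ⊓ centralizer {e}) = 8 ∨ W ⊓ centralizer {e} ≤ zpowers z := by
  refine or_iff_not_imp_left.2 fun h8 w hw => ?_
  have hwE : ∀ a ∈ E, a * w = w * a := fun a ha => by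
    rcases S.act_cases hzW hz hzE he he1 ha with h | ⟨h, -, -⟩
    · exact h w hw
    · exact absurd h h8
  rcases S.fix_all hzW hz hzE hw.1 hwE with h | h
  · rw [h]; exact one_mem _
  · rw [h]; exact mem_zpowers z

/-- The acting group has exponent 3. -/
theorem Setup.pow_three (S : Setup W E p) {a : G} (ha : a ∈ E) : a ^ 3 = 1 := by
  obtain ⟨z, hzW, hz, -, hzE⟩ := S.exists_z
  refine S.faithful _ (pow_mem ha 3) fun w hw => mem_centralizer_singleton_iff.1
    (S.le_of_forall (L := centralizer {a ^ 3}) le_rfl S.norm (fun e he he1 x hx => ?_) hw) |>.symm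
  refine mem_centralizer_singleton_iff.2 ?_
  rcases S.act_cases hzW hz hzE he he1 ha with h | ⟨-, h, -⟩
  · exact ((show Commute a x from h x hx).pow_left 3).eq.symm
  · exact (h x hx).symm

/-- A kernel of the action on a centraliser of order 8 has index at most 3. -/
theorem Setup.index_kernel_le (S : Setup W E p) (hzW : z ∈ W) (hz : orderOf z = 2)
    (hzE : ∀ a ∈ E, a * z = z * a) {e : G} (he : e ∈ E) (he1 : e ≠ 1)
    (h8 : Nat.card ↥(W ⊓ centralizer {e}) = 8) :
    ((centralizer ((W ⊓ centralizer {e} : Subgroup G) : Set G)).subgroupOf E).index ≤ 3 := by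
  classical
  set Q := W ⊓ centralizer {e} with hQ
  set N := (centralizer (Q : Set G)).subgroupOf E with hN
  have hzQ : z ∈ Q := ⟨hzW, mem_centralizer_singleton_iff.2 (hzE e he).symm⟩
  obtain ⟨x, hxQ, hx⟩ : ∃ x ∈ Q, x ∉ zpowers z := by
    refine SetLike.not_le_iff_exists.1 fun hle => ?_
    have := card_le_card_group (Subgroup.subgroupOf Q (zpowers z))
    rw [Nat.card_congr (subgroupOfEquivOfLe hle).toEquiv, h8, Nat.card_zpowers, hz] at this
    omega
  have hEQ := S.conj_centralizer S.norm he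
  have hfix : ∀ a : E, (a : G) * x = x * a → a ∈ N := by
    intro a ha
    refine mem_centralizer_iff.2 fun w hw => ?_
    rcases S.act_cases hzW hz hzE he he1 a.2 with h | ⟨-, -, h⟩
    · exact (h w hw).symm
    · rcases h x hxQ ha with rfl | rfl
      · exact absurd (one_mem _) hx
      · exact absurd (mem_zpowers x) hx
  have hmem : ∀ a : E, (a : G) * x * (a : G)⁻¹ ∈ Q := fun a =>
    Solvable.normalizer_conj_mem (hEQ a.2) hxQ
  let f : E ⧸ N → {q : Q // q ∉ (zpowers z).subgroupOf Q} := Quotient.lift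
    (fun a => ⟨⟨_, hmem a⟩, fun hq => hx (by
      obtain ⟨i, hi⟩ := mem_zpowers_iff.1 (mem_subgroupOf.1 hq)
      have hc : (a : G) * z ^ i = z ^ i * a := (Commute.zpow_right (hzE a a.2) i).eq
      refine mem_zpowers_iff.2 ⟨i, ?_⟩
      calc z ^ i = (a : G)⁻¹ * (z ^ i * a) := by rw [← hc]; group
        _ = x := by rw [hi]; group)⟩)
    (by
      intro a b hab
      have hab0 : a⁻¹ * b ∈ N := QuotientGroup.leftRel_apply.1 hab
      have hab' := mem_centralizer_iff.1 (mem_subgroupOf.1 hab0) x hxQ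
      refine Subtype.ext (Subtype.ext ?_)
      simp only [Subgroup.coe_mul, Subgroup.coe_inv] at hab'
      show (a : G) * x * (a : G)⁻¹ = b * x * (b : G)⁻¹
      calc (a : G) * x * (a : G)⁻¹ = a * (x * ((a : G)⁻¹ * b)) * (b : G)⁻¹ := by group
        _ = b * x * (b : G)⁻¹ := by rw [hab']; group)
  have hf : Function.Injective f := by
    intro u v
    induction u using QuotientGroup.induction_on with
    | _ a =>
    induction v using QuotientGroup.induction_on with
    | _ b =>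
    intro h
    refine QuotientGroup.eq.2 (hfix _ ?_)
    have h' : (a : G) * x * (a : G)⁻¹ = b * x * (b : G)⁻¹ :=
      congrArg (fun q : {q : Q // _} => ((q.1 : Q) : G)) h
    push_cast
    calc (a : G)⁻¹ * b * x = (a : G)⁻¹ * (b * x * (b : G)⁻¹) * b := by group
      _ = x * ((a : G)⁻¹ * b) := by rw [← h']; group
  have h6 : N.index ≤ 6 := by
    haveI : Fintype Q := Fintype.ofFinite Q
    refine (Nat.card_le_card_of_injective f hf).trans (le_of_eq ?_)
    rw [Nat.card_eq_fintype_card, Fintype.card_subtype_compl, ← Nat.card_eq_fintype_card,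
      ← Nat.card_eq_fintype_card, h8]
    have : Nat.card ((zpowers z).subgroupOf Q) = 2 := by
      rw [Nat.card_congr (subgroupOfEquivOfLe (zpowers_le.2 hzQ)).toEquiv, Nat.card_zpowers, hz]
    omega
  obtain ⟨k, hk⟩ := IsPGroup.iff_card.1 S.odd
  obtain ⟨j, -, hj⟩ := (Nat.dvd_prime_pow Fact.out).1 (hk ▸ N.index_dvd_card)
  rw [hj] at h6 ⊢
  rw [S.prime_eq_three] at h6 ⊢
  rcases j with _ | _ | j
  · norm_num
  · norm_num
  · exfalso
    have : 3 ^ 2 ≤ 3 ^ (j + 1 + 1) := Nat.pow_le_pow_right (by norm_num) (by omega)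
    omega

/-- The order of the 2-group is at least 32 and the acting group has order 9. -/
theorem Setup.card_facts (S : Setup W E p) : 8 < Nat.card W ∧ Nat.card E = 9 := by
  obtain ⟨z, hzW, hz, hzc, hzE⟩ := S.exists_z
  obtain ⟨hX, hcen⟩ := S.extraspecial hzW hz hzc hzE
  haveI : Fact (Nat.Prime 2) := ⟨Nat.prime_two⟩
  obtain ⟨n, hn, hcard⟩ := PGroup.extraspecial_card hX
  have hzle : zpowers z ≤ W := zpowers_le.2 hzW
  have h8 : 8 < Nat.card W := by
    refine lt_of_le_of_ne ?_ fun h => ?_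
    · rw [hcard]
      exact le_trans (by norm_num) (Nat.pow_le_pow_right two_pos (show 3 ≤ 2 * n + 1 by omega))
    have hle : W ≤ zpowers z := S.le_of_forall le_rfl S.norm fun e he he1 =>
      (S.centralizer_cases hzW hz hzE he he1).resolve_left fun hQ => he1 <| S.faithful e he fun w hw =>
        (mem_centralizer_singleton_iff.1 ((eq_of_le_of_card_ge inf_le_left
          (show Nat.card W ≤ Nat.card ↥(W ⊓ centralizer {e}) by omega)).ge hw).2).symm
    have := Nat.card_le_card_of_injective _ (inclusion_injective hle)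
    rw [Nat.card_zpowers, hz] at this
    omega
  refine ⟨h8, ?_⟩
  have hp3 := S.prime_eq_three
  obtain ⟨k, hk⟩ := IsPGroup.iff_card.1 S.odd
  rw [hp3] at hk
  rcases k with _ | _ | _ | k
  · refine absurd ?_ S.notCyclic
    haveI := (Nat.card_eq_one_iff_unique.1 (hk.trans (pow_zero 3))).1
    exact isCyclic_of_subsingleton
  · refine absurd ?_ S.notCyclic
    haveI : Fact (Nat.Prime 3) := ⟨Nat.prime_three⟩
    exact isCyclic_of_prime_card (p := 3) (by simpa using hk)
  · simpa using hk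
  exfalso
  have htwo : ∃ e₁ ∈ E, e₁ ≠ 1 ∧ Nat.card ↥(W ⊓ centralizer {e₁}) = 8 ∧
      ∃ e₂ ∈ E, e₂ ≠ 1 ∧ Nat.card ↥(W ⊓ centralizer {e₂}) = 8 ∧
        W ⊓ centralizer {e₁} ≠ W ⊓ centralizer {e₂} := by
    by_cases hone : ∃ e₁ ∈ E, e₁ ≠ 1 ∧ Nat.card ↥(W ⊓ centralizer {e₁}) = 8
    · obtain ⟨e₁, he₁, he₁', h₁⟩ := hone
      refine ⟨e₁, he₁, he₁', h₁, ?_⟩
      by_contra hcon
      push Not at hcon
      have hzQ : zpowers z ≤ W ⊓ centralizer {e₁} :=
        zpowers_le.2 ⟨hzW, mem_centralizer_singleton_iff.2 (hzE e₁ he₁).symm⟩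
      have hle : W ≤ W ⊓ centralizer {e₁} := S.le_of_forall le_rfl S.norm fun e he he1 => by
        rcases S.centralizer_cases hzW hz hzE he he1 with h | h
        · exact (hcon e he he1 h).ge
        · exact h.trans hzQ
      have := Nat.card_le_card_of_injective _ (inclusion_injective hle)
      omega
    · push Not at hone
      have hle : W ≤ zpowers z := S.le_of_forall le_rfl S.norm fun e he he1 =>
        (S.centralizer_cases hzW hz hzE he he1).resolve_left (hone e he he1)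
      have := Nat.card_le_card_of_injective _ (inclusion_injective hle)
      rw [Nat.card_zpowers, hz] at this
      omega
  obtain ⟨e₁, he₁, he₁', h₁, e₂, he₂, he₂', h₂, hne⟩ := htwo
  set N₁ := (centralizer ((W ⊓ centralizer {e₁} : Subgroup G) : Set G)).subgroupOf E with hN₁
  set N₂ := (centralizer ((W ⊓ centralizer {e₂} : Subgroup G) : Set G)).subgroupOf E with hN₂
  have hidx : (N₁ ⊓ N₂).index ≤ 9 := index_inf_le.trans
    (Nat.mul_le_mul (S.index_kernel_le hzW hz hzE he₁ he₁' h₁)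
      (S.index_kernel_le hzW hz hzE he₂ he₂' h₂))
  have hbot : N₁ ⊓ N₂ ≠ ⊥ := fun h => by
    rw [h, index_bot, hk] at hidx
    have : 3 ^ 3 ≤ 3 ^ (k + 1 + 1 + 1) := Nat.pow_le_pow_right (by norm_num) (by omega)
    omega
  obtain ⟨⟨f, hf⟩, hf1⟩ := ne_bot_iff_exists_ne_one.1 hbot
  have hfne : (f : G) ≠ 1 := fun h => hf1 (Subtype.ext (Subtype.ext h))
  have hsub : ∀ e : G, f ∈ (centralizer ((W ⊓ centralizer {e} : Subgroup G) : Set G)).subgroupOf E →
      W ⊓ centralizer {e} ≤ W ⊓ centralizer {(f : G)} := fun e h w hw =>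
    ⟨hw.1, mem_centralizer_singleton_iff.2 (mem_centralizer_iff.1 h w hw)⟩
  have hle : Nat.card ↥(W ⊓ centralizer {(f : G)}) ≤ 8 := by
    rcases S.centralizer_cases hzW hz hzE f.2 hfne with h | h
    · exact h.le
    · refine (Nat.card_le_card_of_injective _ (inclusion_injective h)).trans ?_
      rw [Nat.card_zpowers, hz]
      norm_num
  exact hne ((eq_of_le_of_card_ge (hsub e₁ hf.1) (h₁ ▸ hle)).trans
    (eq_of_le_of_card_ge (hsub e₂ hf.2) (h₂ ▸ hle)).symm)

/-- Joins of subgroups containing the centre of a group of class two. -/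
theorem card_sup_mul_two_le {V : Type*} [Group V] [Finite V] {Z : Subgroup V}
    (hcomm : ∀ a b : V, ⁅a, b⁆ ∈ Z) (hZ2 : Nat.card Z = 2) {K₁ K₂ : Subgroup V}
    (h₁ : Z ≤ K₁) (h₂ : Z ≤ K₂) : Nat.card ↥(K₁ ⊔ K₂) * 2 ≤ Nat.card K₁ * Nat.card K₂ := by
  haveI : K₂.Normal := ⟨fun k hk g => by
    have h : g * k * g⁻¹ = ⁅g, k⁆ * k := by rw [commutatorElement_def]; group
    rw [h]
    exact mul_mem (h₂ (hcomm g k)) hk⟩
  have e1 : Nat.card ↥(K₁ ⊔ K₂) = Nat.card K₂ * K₂.relIndex (K₁ ⊔ K₂) := by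
    rw [relIndex, ← Nat.card_congr (subgroupOfEquivOfLe (le_sup_right : K₂ ≤ K₁ ⊔ K₂)).toEquiv,
      card_mul_index]
  have e2 : Nat.card ↥(K₁ ⊓ K₂) * K₂.relIndex K₁ = Nat.card K₁ := by
    rw [relIndex, inf_comm, ← subgroupOf_map_subtype,
      card_map_of_injective K₁.subtype_injective, card_mul_index]
  have e3 : 2 ≤ Nat.card ↥(K₁ ⊓ K₂) :=
    hZ2 ▸ Nat.card_le_card_of_injective _ (inclusion_injective (le_inf h₁ h₂))
  rw [e1, relIndex_sup_right, ← e2]
  calc Nat.card K₂ * K₂.relIndex K₁ * 2 ≤ Nat.card K₂ * K₂.relIndex K₁ * Nat.card ↥(K₁ ⊓ K₂) :=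
        Nat.mul_le_mul_left _ e3
    _ = Nat.card ↥(K₁ ⊓ K₂) * K₂.relIndex K₁ * Nat.card K₂ := by ring

/-- The 2-group has order at most 512. -/
theorem Setup.card_le (S : Setup W E p) : Nat.card W ≤ 512 := by
  obtain ⟨z, hzW, hz, hzc, hzE⟩ := S.exists_z
  obtain ⟨hX, hcen⟩ := S.extraspecial hzW hz hzc hzE
  obtain ⟨-, h9⟩ := S.card_facts
  have h3 : ∀ a ∈ E, a ^ 3 = 1 := fun a ha => S.pow_three ha
  obtain ⟨a, haE, ha1⟩ : ∃ a ∈ E, a ≠ 1 := by
    by_contra h
    push Not at h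
    rw [(eq_bot_iff_forall E).2 h, card_bot] at h9
    omega
  have hoa : orderOf a = 3 :=
    haveI : Fact (Nat.Prime 3) := ⟨Nat.prime_three⟩
    orderOf_eq_prime (h3 a haE) ha1
  obtain ⟨b, hbE, hba⟩ : ∃ b ∈ E, b ∉ zpowers a := by
    refine SetLike.not_le_iff_exists.1 fun hle => ?_
    have := Nat.card_le_card_of_injective _ (inclusion_injective hle)
    rw [h9, Nat.card_zpowers, hoa] at this
    omega
  have hab : Commute a b := S.comm a haE b hbE
  let f : Fin 3 × Fin 3 → E := fun x =>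
    ⟨a ^ (x.1 : ℕ) * b ^ (x.2 : ℕ), mul_mem (pow_mem haE _) (pow_mem hbE _)⟩
  have hbij : Function.Bijective f := by
    refine (Nat.bijective_iff_injective_and_card f).2 ⟨?_, by simp [h9]⟩
    rintro ⟨i, j⟩ ⟨k, l⟩ h
    have h' : a ^ (i : ℕ) * b ^ (j : ℕ) = a ^ (k : ℕ) * b ^ (l : ℕ) := congrArg Subtype.val h
    have hmem : (b ^ ((j : ℤ) - (l : ℤ))) ∈ zpowers a := by
      refine ⟨(k : ℤ) - (i : ℤ), ?_⟩
      show a ^ ((k : ℤ) - i) = b ^ ((j : ℤ) - l)
      rw [zpow_sub, zpow_sub, zpow_natCast, zpow_natCast, zpow_natCast, zpow_natCast,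
        mul_inv_eq_iff_eq_mul]
      calc a ^ (k : ℕ) = a ^ (k : ℕ) * b ^ (l : ℕ) * (b ^ (l : ℕ))⁻¹ := by group
        _ = a ^ (i : ℕ) * (b ^ (j : ℕ) * (b ^ (l : ℕ))⁻¹) := by rw [← h']; group
        _ = b ^ (j : ℕ) * (b ^ (l : ℕ))⁻¹ * a ^ (i : ℕ) :=
          (((hab.pow_pow _ _).mul_right (hab.pow_pow _ _).inv_right)).eq
    have hjl : j = l := by
      by_contra hne
      refine hba ?_
      have hb3 : b ^ (3 : ℤ) = 1 := by exact_mod_cast h3 b hbE
      have hcases : ((j : ℤ) - l = 1 ∨ (j : ℤ) - l = -2) ∨ ((j : ℤ) - l = -1 ∨ (j : ℤ) - l = 2) := by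
        omega
      rcases hcases with (h | h) | (h | h) <;> rw [h] at hmem
      · simpa using hmem
      · have : b ^ (-2 : ℤ) = b := by
          rw [show (-2 : ℤ) = 1 - 3 by norm_num, zpow_sub, hb3, inv_one, mul_one, zpow_one]
        rwa [this] at hmem
      · simpa using inv_mem hmem
      · have : b ^ (2 : ℤ) = b⁻¹ := by
          rw [show (2 : ℤ) = 3 - 1 by norm_num, zpow_sub, hb3, one_mul, zpow_one]
        rw [this] at hmem
        simpa using inv_mem hmem
    subst hjl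
    have hik := pow_injOn_Iio_orderOf (x := a) (by rw [hoa]; exact i.2) (by rw [hoa]; exact k.2)
      (mul_right_cancel h')
    exact Prod.ext (Fin.ext hik) rfl
  let K : G → Subgroup W := fun l => (W ⊓ centralizer {l}).subgroupOf W
  have hKcard : ∀ l ∈ E, l ≠ 1 → Nat.card (K l) ≤ 8 := fun l hl hl1 => by
    rw [show Nat.card (K l) = Nat.card ↥(W ⊓ centralizer {l}) from
      Nat.card_congr (subgroupOfEquivOfLe inf_le_left).toEquiv]
    rcases S.centralizer_cases hzW hz hzE hl hl1 with h | h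
    · exact h.le
    · refine (Nat.card_le_card_of_injective _ (inclusion_injective h)).trans ?_
      rw [Nat.card_zpowers, hz]
      norm_num
  have hKz : ∀ l ∈ E, center W ≤ K l := fun l hl => by
    rw [hcen, zpowers_le]
    exact ⟨hzW, mem_centralizer_singleton_iff.2 (hzE l hl).symm⟩
  set T := K a ⊔ K b ⊔ K (a * b) ⊔ K (a * b ^ 2) with hT
  have hab1 : ∀ j : ℕ, a * b ^ j ≠ 1 ∨ j = 0 := by
    intro j
    by_cases hj : j = 0
    · exact Or.inr hj
    left
    intro h
    rw [mul_eq_one_iff_eq_inv] at h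
    have : b ^ j ∈ zpowers a := by rw [← inv_inv (b ^ j), ← h]; exact inv_mem (mem_zpowers a)
    have hj3 : j % 3 = 0 ∨ j % 3 = 1 ∨ j % 3 = 2 := by omega
    rw [← Nat.mod_add_div j 3, pow_add, pow_mul, h3 b hbE, one_pow, mul_one] at this h
    rcases hj3 with hm | hm | hm <;> rw [hm] at this h
    · rw [pow_zero, inv_one] at h; exact ha1 h
    · exact hba (by simpa using this)
    · refine hba ?_
      have e : b = (b ^ 2)⁻¹ := by
        rw [eq_inv_iff_mul_eq_one, ← pow_succ', h3 b hbE]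
      rw [e]; exact inv_mem this
  have hWT : W ≤ T.map W.subtype := by
    refine S.le_of_forall le_rfl S.norm fun e he he1 => ?_
    suffices ∃ l, K l ≤ T ∧ (l = e ∨ l = e ^ 2) by
      obtain ⟨l, hlT, hle⟩ := this
      intro w hw
      refine ⟨⟨w, hw.1⟩, hlT ⟨hw.1, ?_⟩, rfl⟩
      rcases hle with rfl | rfl
      · exact hw.2
      · exact mem_centralizer_singleton_iff.2
          ((show Commute w e from mem_centralizer_singleton_iff.1 hw.2).pow_right 2).eq
    obtain ⟨⟨i, j⟩, hij⟩ := hbij.2 ⟨e, he⟩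
    have hij' : a ^ (i : ℕ) * b ^ (j : ℕ) = e := congrArg Subtype.val hij
    have hsq : ∀ i j : ℕ, (a ^ i * b ^ j) ^ 2 = a ^ (i * 2) * b ^ (j * 2) := fun i j => by
      rw [(hab.pow_pow i j).mul_pow, ← pow_mul, ← pow_mul]
    have ha4 : a ^ 4 = a := by rw [pow_succ, h3 a haE, one_mul]
    have hb4 : b ^ 4 = b := by rw [pow_succ, h3 b hbE, one_mul]
    have hKa : K a ≤ T := le_sup_left.trans (le_sup_left.trans le_sup_left)
    have hKb : K b ≤ T := le_sup_right.trans (le_sup_left.trans le_sup_left)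
    have hKab : K (a * b) ≤ T := le_sup_right.trans le_sup_left
    have hKab2 : K (a * b ^ 2) ≤ T := le_sup_right
    rw [← hij']
    fin_cases i <;> fin_cases j <;> simp only [pow_zero, pow_one, one_mul, mul_one]
    · exact absurd (by simpa using hij'.symm) he1
    · exact ⟨b, hKb, Or.inl rfl⟩
    · exact ⟨b, hKb, Or.inr (by rw [← pow_mul]; exact hb4.symm)⟩
    · exact ⟨a, hKa, Or.inl rfl⟩
    · exact ⟨a * b, hKab, Or.inl rfl⟩
    · exact ⟨a * b ^ 2, hKab2, Or.inl rfl⟩
    · exact ⟨a, hKa, Or.inr (by rw [← pow_mul]; exact ha4.symm)⟩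
    · exact ⟨a * b ^ 2, hKab2, Or.inr (by rw [hab.pow_left 2 |>.mul_pow, ← pow_mul, ha4])⟩
    · exact ⟨a * b, hKab, Or.inr (by rw [hsq, ha4, hb4])⟩
  have hTcard : Nat.card W ≤ Nat.card T := by
    have := Nat.card_le_card_of_injective _ (inclusion_injective hWT)
    rwa [card_map_of_injective W.subtype_injective] at this
  haveI : Fact (Nat.Prime 2) := ⟨Nat.prime_two⟩
  have hc := fun x y => PGroup.special_comm_mem_center hX.1 x y
  have hb1 : b ≠ 1 := fun h => hba (h ▸ one_mem _)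
  have e1 := card_sup_mul_two_le hc hX.2 (hKz a haE) (hKz b hbE)
  have e2 := card_sup_mul_two_le hc hX.2 ((hKz a haE).trans (le_sup_left (b := K b)))
    (hKz _ (mul_mem haE hbE))
  have e3 := card_sup_mul_two_le hc hX.2
    ((hKz a haE).trans ((le_sup_left (b := K b)).trans (le_sup_left (b := K (a * b)))))
    (hKz _ (mul_mem haE (pow_mem hbE 2)))
  have k1 := hKcard a haE ha1
  have k2 := hKcard b hbE hb1
  have k3 := hKcard (a * b) (mul_mem haE hbE) (by simpa using hab1 1)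
  have k4 := hKcard (a * b ^ 2) (mul_mem haE (pow_mem hbE 2)) (by simpa using hab1 2)
  have m1 := Nat.mul_le_mul k1 k2
  have m2 := Nat.mul_le_mul (show Nat.card ↥(K a ⊔ K b) ≤ 32 by omega) k3
  have m3 := Nat.mul_le_mul (show Nat.card ↥(K a ⊔ K b ⊔ K (a * b)) ≤ 128 by omega) k4
  rw [hT] at hTcard
  omega

/-- The structure theorem. -/
theorem Setup.structure_thm (S : Setup W E p) :
    Nat.card E = 9 ∧ Cfsg.IsExtraspecial 2 W ∧
      (Nat.card W = 2 ^ 5 ∨ Nat.card W = 2 ^ 7 ∨ Nat.card W = 2 ^ 9) ∧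
      ∀ w : W, (∀ a ∈ E, a * (w : G) = w * a) ↔ w ∈ center W := by
  obtain ⟨z, hzW, hz, hzc, hzE⟩ := S.exists_z
  obtain ⟨hX, hcen⟩ := S.extraspecial hzW hz hzc hzE
  haveI : Fact (Nat.Prime 2) := ⟨Nat.prime_two⟩
  obtain ⟨h8, h9⟩ := S.card_facts
  have h512 := S.card_le
  obtain ⟨n, -, hn⟩ := PGroup.extraspecial_card hX
  refine ⟨h9, hX, ?_, fun w => ⟨fun h => ?_, fun h a ha => ?_⟩⟩
  · rw [hn] at h8 h512 ⊢
    have hlo : 3 < 2 * n + 1 := (Nat.pow_lt_pow_iff_right one_lt_two).1 h8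
    have hhi : 2 * n + 1 ≤ 9 := (Nat.pow_le_pow_iff_right one_lt_two).1 h512
    rcases (by omega : n = 2 ∨ n = 3 ∨ n = 4) with rfl | rfl | rfl <;> simp
  · rw [hcen]
    rcases S.fix_all hzW hz hzE w.2 h with h | h
    · rw [show w = 1 from Subtype.ext h]; exact one_mem _
    · rw [show w = ⟨z, hzW⟩ from Subtype.ext h]; exact mem_zpowers _
  · rw [hcen] at h
    obtain ⟨i, rfl⟩ := h
    exact (Commute.zpow_right (hzE a ha) i).eq

end CfsgLib.LocalEven.OneInvol
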